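import Mathlib

/-!
S2478: an isomorphism of `F[X]`-modules `AEval' (toLin' g) ≃ AEval' (toLin' g')` makes `g` and `g'`
conjugate in `GL_n(F)`.
-/

set_option autoImplicit false

namespace Cfsg.Agent.Helper5.GLk

open Polynomial Module

universe u

variable {F : Type u} [Field F] {n : ℕ}

/-- the linear map attached to an element of `GL_n(F)`. -/
noncomputable abbrev glLin (g : Matrix.GeneralLinearGroup (Fin n) F) : (Fin n → F) →ₗ[F] (Fin n → F) :=
  Matrix.toLin' (g : Matrix (Fin n) (Fin n) F)

theorem glLin_injective (g : Matrix.GeneralLinearGroup (Fin n) F) : Function.Injective (glLin g) := by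
  have h : (glLin g⁻¹).comp (glLin g) = LinearMap.id := by
    unfold glLin
    rw [← Matrix.toLin'_mul]
    have : ((g⁻¹ : Matrix.GeneralLinearGroup (Fin n) F) : Matrix (Fin n) (Fin n) F) *
        (g : Matrix (Fin n) (Fin n) F) = 1 := by
      rw [← Units.val_mul, inv_mul_cancel, Units.val_one]
    rw [this, Matrix.toLin'_one]
  intro v w hvw
  have := congrArg (glLin g⁻¹) hvw
  have h1 : ∀ x, (glLin g⁻¹) ((glLin g) x) = x := fun x => by
    have := LinearMap.congr_fun h x
    simpa using this
  rwa [h1, h1] at this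

theorem glLin_pow_injective (g : Matrix.GeneralLinearGroup (Fin n) F) (k : ℕ) :
    Function.Injective ((glLin g) ^ k) := by
  induction k with
  | zero => intro v w h; simpa using h
  | succ k ih =>
    intro v w h
    rw [pow_succ] at h
    have h2 : ((glLin g) ^ k) ((glLin g) v) = ((glLin g) ^ k) ((glLin g) w) := h
    exact glLin_injective g (ih h2)

theorem isConj_of_aeval_equiv (g g' : Matrix.GeneralLinearGroup (Fin n) F)
    (ψ : AEval' (glLin g) ≃ₗ[F[X]] AEval' (glLin g')) : IsConj g g' := by
  classical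
  set φ := glLin g with hφ
  set φ' := glLin g' with hφ'
  let θ : (Fin n → F) ≃ₗ[F] (Fin n → F) :=
    (AEval'.of φ).trans ((ψ.restrictScalars F).trans (AEval'.of φ').symm)
  have hθ : ∀ v, θ (φ v) = φ' (θ v) := by
    intro v
    change (AEval'.of φ').symm (ψ (AEval'.of φ (φ v))) = φ' ((AEval'.of φ').symm (ψ (AEval'.of φ v)))
    rw [← AEval'.X_smul_of, map_smul, AEval'.of_symm_X_smul]
  have hcomp : θ.toLinearMap.comp φ = φ'.comp θ.toLinearMap := by
    apply LinearMap.ext
    intro v
    exact hθ v
  set P := LinearMap.toMatrix' θ.toLinearMap with hP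
  set Q := LinearMap.toMatrix' θ.symm.toLinearMap with hQ
  have hPQ : P * Q = 1 := by
    rw [hP, hQ, ← LinearMap.toMatrix'_comp]
    have : θ.toLinearMap.comp θ.symm.toLinearMap = LinearMap.id := by
      apply LinearMap.ext; intro v; simp
    rw [this, LinearMap.toMatrix'_id]
  have hQP : Q * P = 1 := by
    rw [hP, hQ, ← LinearMap.toMatrix'_comp]
    have : θ.symm.toLinearMap.comp θ.toLinearMap = LinearMap.id := by
      apply LinearMap.ext; intro v; simp
    rw [this, LinearMap.toMatrix'_id]
  have hPA : P * (g : Matrix (Fin n) (Fin n) F) = (g' : Matrix (Fin n) (Fin n) F) * P := by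
    have h1 := congrArg LinearMap.toMatrix' hcomp
    rw [LinearMap.toMatrix'_comp, LinearMap.toMatrix'_comp] at h1
    simpa [hφ, hφ', glLin, LinearMap.toMatrix'_toLin'] using h1
  let c : Matrix.GeneralLinearGroup (Fin n) F := ⟨P, Q, hPQ, hQP⟩
  rw [isConj_iff]
  refine ⟨c, ?_⟩
  have hcg : c * g = g' * c := by
    apply Units.ext
    rw [Units.val_mul, Units.val_mul]
    exact hPA
  rw [hcg, mul_inv_cancel_right]

end Cfsg.Agent.Helper5.GLk
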