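import Mathlib

/-!
S2478: the combinatorial inequality behind `k(GL_n(q)) ≤ q^n`.

`fNum q k n` is the coefficient of `u^n` in `∏_{i=1}^k (1-u^i)/(1-q u^i)`; we show
`q^k * fNum q k n + q^n ≤ q^(n+k)` for `n ≥ 1`, hence `fNum q n n + 1 ≤ q^n`.
-/

set_option autoImplicit false

namespace Cfsg.Agent.Helper5.GLk

/-- the number of monic polynomials of degree `j` with nonzero constant term over `𝔽_q`. -/
def aNum (q j : ℕ) : ℕ := if j = 0 then 1 else (q - 1) * q ^ (j - 1)

/-- the coefficient of `u^n` in `∏_{i=1}^k (1-u^i)/(1-q u^i)`. -/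
def fNum (q : ℕ) : ℕ → ℕ → ℕ
  | 0, n => if n = 0 then 1 else 0
  | (k + 1), n =>
      ∑ j ∈ Finset.range (n / (k + 1) + 1), aNum q j * fNum q k (n - (k + 1) * j)

theorem fNum_zero (q n : ℕ) : fNum q 0 n = if n = 0 then 1 else 0 := by
  simp [fNum]

theorem fNum_succ (q k n : ℕ) : fNum q (k + 1) n =
    ∑ j ∈ Finset.range (n / (k + 1) + 1), aNum q j * fNum q k (n - (k + 1) * j) := by
  simp [fNum]

theorem aNum_zero (q : ℕ) : aNum q 0 = 1 := by simp [aNum]

theorem aNum_succ (q j : ℕ) : aNum q (j + 1) = (q - 1) * q ^ j := by simp [aNum]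

theorem fNum_zero_right (q k : ℕ) : fNum q k 0 = 1 := by
  induction k with
  | zero => simp [fNum_zero]
  | succ k ih => simp [fNum_succ, aNum_zero, ih]

/-- partial sums of the recursion, bounded with an exactly telescoping remainder. -/
theorem partial_bound (r k : ℕ)
    (H : ∀ m, 1 ≤ m → (r + 1) ^ k * fNum (r + 1) k m + (r + 1) ^ m ≤ (r + 1) ^ (m + k)) :
    ∀ J E, 1 ≤ E →
      (r + 1) ^ (k + 1) * (∑ j ∈ Finset.range (J + 1),
          aNum (r + 1) j * fNum (r + 1) k (E + (k + 1) * J - (k + 1) * j))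
        + (r + 1) ^ (E + (k + 1) * J) + r * (r + 1) ^ (E + J)
        ≤ (r + 1) ^ (E + (k + 1) * J + (k + 1)) := by
  intro J
  induction J with
  | zero =>
    intro E hE
    have h := H E hE
    simp only [zero_add, Finset.range_one, Finset.sum_singleton, aNum_zero, one_mul, mul_zero,
      add_zero, Nat.sub_zero]
    have e1 : (r + 1) ^ (k + 1) = (r + 1) ^ k * (r + 1) := pow_succ _ _
    have e2 : (r + 1) ^ (E + (k + 1)) = (r + 1) ^ (E + k) * (r + 1) := by
      rw [← add_assoc, pow_succ]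
    rw [e1, e2]
    calc (r + 1) ^ k * (r + 1) * fNum (r + 1) k E + (r + 1) ^ E + r * (r + 1) ^ E
        = ((r + 1) ^ k * fNum (r + 1) k E + (r + 1) ^ E) * (r + 1) := by ring
      _ ≤ (r + 1) ^ (E + k) * (r + 1) := Nat.mul_le_mul_right _ h
  | succ J ih =>
    intro E hE
    have hE' : 1 ≤ E + (k + 1) := by omega
    have IH := ih (E + (k + 1)) hE'
    have hn : E + (k + 1) * (J + 1) = E + (k + 1) + (k + 1) * J := by ring
    rw [Finset.sum_range_succ, hn]
    have hlast : E + (k + 1) + (k + 1) * J - (k + 1) * (J + 1) = E := by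
      apply Nat.sub_eq_of_eq_add
      ring
    rw [hlast, aNum_succ, Nat.add_sub_cancel]
    have hH := H E hE
    -- multiply `hH` by `(r+1) * (r * (r+1)^J)`
    have hH2 : (r + 1) ^ (k + 1) * (r * (r + 1) ^ J * fNum (r + 1) k E)
        + r * (r + 1) ^ (E + (J + 1)) ≤ r * (r + 1) ^ (E + (k + 1) + J) := by
      have e1 : (r + 1) ^ (k + 1) = (r + 1) ^ k * (r + 1) := pow_succ _ _
      have e2 : (r + 1) ^ (E + (J + 1)) = (r + 1) ^ E * (r + 1) ^ J * (r + 1) := by
        rw [← add_assoc, pow_succ, pow_add]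
      have e3 : (r + 1) ^ (E + (k + 1) + J) = (r + 1) ^ (E + k) * (r + 1) * (r + 1) ^ J := by
        rw [← add_assoc, pow_add, pow_succ]
      rw [e1, e2, e3]
      calc (r + 1) ^ k * (r + 1) * (r * (r + 1) ^ J * fNum (r + 1) k E)
            + r * ((r + 1) ^ E * (r + 1) ^ J * (r + 1))
          = ((r + 1) ^ k * fNum (r + 1) k E + (r + 1) ^ E) * ((r + 1) * (r * (r + 1) ^ J)) := by
            ring
        _ ≤ (r + 1) ^ (E + k) * ((r + 1) * (r * (r + 1) ^ J)) := Nat.mul_le_mul_right _ hH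
        _ = r * ((r + 1) ^ (E + k) * (r + 1) * (r + 1) ^ J) := by ring
    have hexp : E + (k + 1) + (k + 1) * J + (k + 1) = E + (k + 1) + (k + 1) * J + (k + 1) := rfl
    calc (r + 1) ^ (k + 1) * (∑ j ∈ Finset.range (J + 1),
            aNum (r + 1) j * fNum (r + 1) k (E + (k + 1) + (k + 1) * J - (k + 1) * j)
            + r * (r + 1) ^ J * fNum (r + 1) k E)
          + (r + 1) ^ (E + (k + 1) + (k + 1) * J) + r * (r + 1) ^ (E + (J + 1))
        = (r + 1) ^ (k + 1) * (∑ j ∈ Finset.range (J + 1),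
            aNum (r + 1) j * fNum (r + 1) k (E + (k + 1) + (k + 1) * J - (k + 1) * j))
          + (r + 1) ^ (E + (k + 1) + (k + 1) * J)
          + ((r + 1) ^ (k + 1) * (r * (r + 1) ^ J * fNum (r + 1) k E)
              + r * (r + 1) ^ (E + (J + 1))) := by ring
      _ ≤ (r + 1) ^ (k + 1) * (∑ j ∈ Finset.range (J + 1),
            aNum (r + 1) j * fNum (r + 1) k (E + (k + 1) + (k + 1) * J - (k + 1) * j))
          + (r + 1) ^ (E + (k + 1) + (k + 1) * J)
          + r * (r + 1) ^ (E + (k + 1) + J) := Nat.add_le_add_left hH2 _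
      _ ≤ (r + 1) ^ (E + (k + 1) + (k + 1) * J + (k + 1)) := IH

/-- the main inequality: `q^k f_k(n) + q^n ≤ q^(n+k)` for `n ≥ 1`. -/
theorem fNum_bound (r : ℕ) : ∀ k n, 1 ≤ n →
    (r + 1) ^ k * fNum (r + 1) k n + (r + 1) ^ n ≤ (r + 1) ^ (n + k) := by
  intro k
  induction k with
  | zero =>
    intro n hn
    have : n ≠ 0 := by omega
    simp [fNum_zero, this]
  | succ k ih =>
    intro n hn
    have hPB := partial_bound r k ih
    rw [fNum_succ]
    by_cases hdiv : (k + 1) ∣ n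
    · obtain ⟨J, rfl⟩ := hdiv
      have hJ : 1 ≤ J := by
        rcases Nat.eq_zero_or_pos J with h | h
        · subst h; simp at hn
        · exact h
      obtain ⟨J0, rfl⟩ : ∃ J0, J = J0 + 1 := ⟨J - 1, by omega⟩
      have hdivq : (k + 1) * (J0 + 1) / (k + 1) = J0 + 1 :=
        Nat.mul_div_cancel_left _ (Nat.succ_pos k)
      rw [hdivq, Finset.sum_range_succ, Nat.sub_self, fNum_zero_right, mul_one, aNum_succ,
        Nat.add_sub_cancel]
      have h := hPB J0 (k + 1) (by omega)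
      have hn' : (k + 1) * (J0 + 1) = k + 1 + (k + 1) * J0 := by ring
      rw [hn']
      have e1 : (r + 1) ^ (k + 1) * (r * (r + 1) ^ J0) = r * (r + 1) ^ (k + 1 + J0) := by
        rw [pow_add]; ring
      calc (r + 1) ^ (k + 1) * (∑ j ∈ Finset.range (J0 + 1),
              aNum (r + 1) j * fNum (r + 1) k (k + 1 + (k + 1) * J0 - (k + 1) * j)
              + r * (r + 1) ^ J0) + (r + 1) ^ (k + 1 + (k + 1) * J0)
          = (r + 1) ^ (k + 1) * (∑ j ∈ Finset.range (J0 + 1),
              aNum (r + 1) j * fNum (r + 1) k (k + 1 + (k + 1) * J0 - (k + 1) * j))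
            + (r + 1) ^ (k + 1 + (k + 1) * J0) + r * (r + 1) ^ (k + 1 + J0) := by
            rw [mul_add, e1]; ring
        _ ≤ (r + 1) ^ (k + 1 + (k + 1) * J0 + (k + 1)) := h
    · have hE : 1 ≤ n % (k + 1) := by
        rcases Nat.eq_zero_or_pos (n % (k + 1)) with h | h
        · exact absurd (Nat.dvd_of_mod_eq_zero h) hdiv
        · exact h
      have h := hPB (n / (k + 1)) (n % (k + 1)) hE
      have hn' : n % (k + 1) + (k + 1) * (n / (k + 1)) = n := Nat.mod_add_div n (k + 1)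
      rw [hn'] at h
      exact le_trans (Nat.le_add_right _ _) h

/-- `f_n(n) + 1 ≤ q^n`. -/
theorem fNum_diag_lt (q n : ℕ) (hq : 1 ≤ q) (hn : 1 ≤ n) : fNum q n n + 1 ≤ q ^ n := by
  obtain ⟨r, rfl⟩ : ∃ r, q = r + 1 := ⟨q - 1, by omega⟩
  have h := fNum_bound r n n hn
  have hpos : 0 < (r + 1) ^ n := pow_pos (Nat.succ_pos r) n
  have h2 : (r + 1) ^ n * (fNum (r + 1) n n + 1) ≤ (r + 1) ^ n * (r + 1) ^ n := by
    rw [← pow_add]
    calc (r + 1) ^ n * (fNum (r + 1) n n + 1)
        = (r + 1) ^ n * fNum (r + 1) n n + (r + 1) ^ n := by ring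
      _ ≤ (r + 1) ^ (n + n) := h
  exact Nat.le_of_mul_le_mul_left h2 hpos

end Cfsg.Agent.Helper5.GLk
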