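import Mathlib
import Cfsg.Agent.Helper5.GLk.Count

/-!
S2478: the finite set of invariants (sequences of monic polynomials with nonzero constant term)
and its cardinality.
-/

set_option autoImplicit false

namespace Cfsg.Agent.Helper5.GLk

open Polynomial

variable (F : Type*) [Field F]

/-- monic polynomials of degree `d` with nonzero constant coefficient. -/
def Mon (d : ℕ) : Type _ := {h : F[X] // h.Monic ∧ h.natDegree = d ∧ h.coeff 0 ≠ 0}

/-- sequences `(g_1, …, g_k)` of monic polynomials with nonzero constant coefficient and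
`∑ i * deg g_i = n`. -/
def DSeq (k n : ℕ) : Type _ :=
  {g : Fin k → F[X] // (∀ i, (g i).Monic ∧ (g i).coeff 0 ≠ 0) ∧
    ∑ i : Fin k, (i.1 + 1) * (g i).natDegree = n}

section card

variable [Fintype F]

theorem card_ne_zero_subtype : Nat.card {a : F // a ≠ 0} = Fintype.card F - 1 := by
  classical
  rw [Nat.card_eq_fintype_card, Fintype.card_subtype_compl, Fintype.card_subtype_eq]

/-- coefficient functions with nonzero constant term. -/
theorem card_coeff_fun (m : ℕ) :
    Nat.card {c : Fin (m + 1) → F // c 0 ≠ 0} = (Fintype.card F - 1) * Fintype.card F ^ m := by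
  have e1 : {c : Fin (m + 1) → F // c 0 ≠ 0} ≃ {s : F × (Fin m → F) // s.1 ≠ 0} :=
    Equiv.subtypeEquiv (Fin.consEquiv (fun _ : Fin (m + 1) => F)).symm (by
      intro c
      rfl)
  have e2 : {s : F × (Fin m → F) // s.1 ≠ 0} ≃ {a : F // a ≠ 0} × (Fin m → F) :=
    Equiv.prodSubtypeFstEquivSubtypeProd (α := F) (β := Fin m → F) (p := fun a => a ≠ 0)
  rw [Nat.card_congr (e1.trans e2), Nat.card_prod, card_ne_zero_subtype, Nat.card_fun,
    Nat.card_eq_fintype_card, Nat.card_eq_fintype_card, Fintype.card_fin]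

/-- the coefficient equivalence for monic polynomials of degree `d`. -/
noncomputable def monicCoeffEquiv (d : ℕ) :
    {p : F[X] // p.Monic ∧ p.natDegree = d} ≃ (Fin d → F) :=
  (monicEquivDegreeLT d).trans (degreeLTEquiv F d).toEquiv

theorem monicCoeffEquiv_apply (d : ℕ) (p : {p : F[X] // p.Monic ∧ p.natDegree = d}) (i : Fin d) :
    monicCoeffEquiv F d p i = p.1.coeff i := by
  change (p.1.eraseLead).coeff i = p.1.coeff i
  apply eraseLead_coeff_of_ne
  rw [p.2.2]
  exact i.2.ne

theorem card_Mon_zero : Nat.card (Mon F 0) = 1 := by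
  have : Unique (Mon F 0) :=
    { default := ⟨1, monic_one, natDegree_one, by simp⟩
      uniq := by
        rintro ⟨h, hm, hd, hc⟩
        apply Subtype.ext
        exact hm.natDegree_eq_zero.1 hd }
  exact Nat.card_unique

theorem card_Mon_succ (m : ℕ) :
    Nat.card (Mon F (m + 1)) = (Fintype.card F - 1) * Fintype.card F ^ m := by
  have e0 : Mon F (m + 1) ≃
      {p : {p : F[X] // p.Monic ∧ p.natDegree = m + 1} // p.1.coeff 0 ≠ 0} :=
    { toFun := fun h => ⟨⟨h.1, h.2.1, h.2.2.1⟩, h.2.2.2⟩
      invFun := fun p => ⟨p.1.1, p.1.2.1, p.1.2.2, p.2⟩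
      left_inv := fun _ => rfl
      right_inv := fun _ => rfl }
  have e1 : {p : {p : F[X] // p.Monic ∧ p.natDegree = m + 1} // p.1.coeff 0 ≠ 0} ≃
      {c : Fin (m + 1) → F // c 0 ≠ 0} :=
    Equiv.subtypeEquiv (monicCoeffEquiv F (m + 1)) (by
      intro p
      rw [monicCoeffEquiv_apply]
      rfl)
  rw [Nat.card_congr (e0.trans e1), card_coeff_fun]

theorem card_Mon (d : ℕ) : Nat.card (Mon F d) = aNum (Fintype.card F) d := by
  cases d with
  | zero => rw [card_Mon_zero, aNum_zero]
  | succ m => rw [card_Mon_succ, aNum_succ]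

instance (d : ℕ) : Finite (Mon F d) := by
  apply Nat.finite_of_card_ne_zero
  rw [card_Mon]
  have hq : 2 ≤ Fintype.card F := Fintype.one_lt_card
  cases d with
  | zero => simp [aNum_zero]
  | succ m =>
    rw [aNum_succ]
    have h1 : 0 < Fintype.card F - 1 := by omega
    have h2 : 0 < Fintype.card F ^ m := pow_pos (by omega) m
    exact (Nat.mul_pos h1 h2).ne'

end card

section dseq

theorem dseq_zero_card (n : ℕ) : Nat.card (DSeq F 0 n) = if n = 0 then 1 else 0 := by
  by_cases hn : n = 0
  · subst hn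
    have : Unique (DSeq F 0 0) :=
      { default := ⟨fun i => i.elim0, fun i => i.elim0, by simp⟩
        uniq := by
          rintro ⟨g, hg⟩
          apply Subtype.ext
          funext i
          exact i.elim0 }
    simp
  · have : IsEmpty (DSeq F 0 n) := by
      constructor
      rintro ⟨g, -, hg⟩
      simp at hg
      exact hn hg.symm
    simp [hn]

instance (n : ℕ) : Finite (DSeq F 0 n) := by
  by_cases hn : n = 0
  · subst hn
    have : Subsingleton (DSeq F 0 0) := by
      constructor
      rintro ⟨g, hg⟩ ⟨g', hg'⟩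
      apply Subtype.ext
      funext i
      exact i.elim0
    infer_instance
  · have : IsEmpty (DSeq F 0 n) := by
      constructor
      rintro ⟨g, -, hg⟩
      simp at hg
      exact hn hg.symm
    infer_instance

variable {F}

theorem dseq_sum_split {k n : ℕ} (x : DSeq F (k + 1) n) :
    ∑ i : Fin k, (i.1 + 1) * (x.1 (Fin.castSucc i)).natDegree
      + (k + 1) * (x.1 (Fin.last k)).natDegree = n := by
  have h := x.2.2
  rw [Fin.sum_univ_castSucc] at h
  simpa using h

/-- the degree of the last polynomial. -/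
noncomputable def lastDeg {k n : ℕ} (x : DSeq F (k + 1) n) : Fin (n / (k + 1) + 1) :=
  ⟨(x.1 (Fin.last k)).natDegree, by
    have h := dseq_sum_split x
    have h2 : (x.1 (Fin.last k)).natDegree * (k + 1) ≤ n := by
      rw [mul_comm]; omega
    exact Nat.lt_succ_of_le ((Nat.le_div_iff_mul_le (Nat.succ_pos k)).2 h2)⟩

/-- the fibre map: the last polynomial and the initial segment. -/
noncomputable def fibreMap {k n : ℕ} (d : Fin (n / (k + 1) + 1))
    (x : {x : DSeq F (k + 1) n // lastDeg x = d}) :
    Mon F d.1 × DSeq F k (n - (k + 1) * d.1) :=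
  have hd : (x.1.1 (Fin.last k)).natDegree = d.1 := congrArg Fin.val x.2
  (⟨x.1.1 (Fin.last k), (x.1.2.1 _).1, hd, (x.1.2.1 _).2⟩,
   ⟨fun i => x.1.1 (Fin.castSucc i), fun i => x.1.2.1 _, by
      have h := dseq_sum_split x.1
      rw [hd] at h
      exact Nat.eq_sub_of_add_eq h⟩)

theorem fibreMap_injective {k n : ℕ} (d : Fin (n / (k + 1) + 1)) :
    Function.Injective (fibreMap (F := F) (k := k) (n := n) d) := by
  rintro ⟨⟨g, hg⟩, hx⟩ ⟨⟨g', hg'⟩, hx'⟩ h
  apply Subtype.ext
  apply Subtype.ext
  have h1 : g (Fin.last k) = g' (Fin.last k) := by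
    have := congrArg (fun z => z.1.1) h
    exact this
  have h2 : ∀ i : Fin k, g (Fin.castSucc i) = g' (Fin.castSucc i) := by
    intro i
    have := congrArg (fun z => z.2.1 i) h
    exact this
  funext i
  refine Fin.lastCases ?_ ?_ i
  · exact h1
  · exact h2

end dseq

section bound

variable [Fintype F]

/-- finiteness and the cardinality bound, by induction on `k`. -/
theorem dseq_bound : ∀ k n : ℕ, Finite (DSeq F k n) ∧
    Nat.card (DSeq F k n) ≤ fNum (Fintype.card F) k n := by
  intro k
  induction k with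
  | zero =>
    intro n
    refine ⟨inferInstance, ?_⟩
    rw [dseq_zero_card, fNum_zero]
  | succ k ih =>
    intro n
    haveI hfin : ∀ m, Finite (DSeq F k m) := fun m => (ih m).1
    haveI hfib : ∀ d : Fin (n / (k + 1) + 1),
        Finite {x : DSeq F (k + 1) n // lastDeg x = d} :=
      fun d => Finite.of_injective _ (fibreMap_injective d)
    have e := Equiv.sigmaFiberEquiv (lastDeg (F := F) (k := k) (n := n))
    haveI : Finite (DSeq F (k + 1) n) := Finite.of_equiv _ e
    refine ⟨inferInstance, ?_⟩
    rw [← Nat.card_congr e, Nat.card_sigma, fNum_succ, ← Fin.sum_univ_eq_sum_range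
      (fun j => aNum (Fintype.card F) j * fNum (Fintype.card F) k (n - (k + 1) * j))]
    apply Finset.sum_le_sum
    intro d _
    calc Nat.card {x : DSeq F (k + 1) n // lastDeg x = d}
        ≤ Nat.card (Mon F d.1 × DSeq F k (n - (k + 1) * d.1)) :=
          Nat.card_le_card_of_injective _ (fibreMap_injective d)
      _ = Nat.card (Mon F d.1) * Nat.card (DSeq F k (n - (k + 1) * d.1)) := Nat.card_prod _ _
      _ ≤ aNum (Fintype.card F) d.1 * fNum (Fintype.card F) k (n - (k + 1) * d.1) := by
          rw [card_Mon]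
          exact Nat.mul_le_mul_left _ (ih _).2

instance (k n : ℕ) : Finite (DSeq F k n) := (dseq_bound F k n).1

theorem card_dseq_diag_lt (n : ℕ) (hn : 1 ≤ n) :
    Nat.card (DSeq F n n) + 1 ≤ Fintype.card F ^ n :=
  le_trans (Nat.add_le_add_right (dseq_bound F n n).2 1)
    (fNum_diag_lt _ n (by have : 2 ≤ Fintype.card F := Fintype.one_lt_card; omega) hn)

end bound

end Cfsg.Agent.Helper5.GLk
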