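import Mathlib
import Cfsg.Agent.Helper5.GLk.Conj

/-!
S2478: primary decompositions of finitely generated torsion `F[X]`-modules, in `Π`-form, and
the isomorphism between two modules with matching decompositions.
-/

set_option autoImplicit false

namespace Cfsg.Agent.Helper5.GLk

open Polynomial Module

universe u v w

variable {F : Type u} [Field F]

/-- the cyclic module `F[X]/(p^e)`. -/
abbrev Cyc (p : F[X]) (e : ℕ) : Type u := F[X] ⧸ Submodule.span F[X] {p ^ e}

/-- a primary decomposition of an `F[X]`-module, in `Π`-form. -/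
structure Dec (M : Type v) [AddCommGroup M] [Module F[X] M] where
  ι : Type u
  fin : Fintype ι
  p : ι → F[X]
  irr : ∀ i, Irreducible (p i)
  e : ι → ℕ
  iso : M ≃ₗ[F[X]] ∀ i, Cyc (p i) (e i)

theorem exists_dec (M : Type v) [AddCommGroup M] [Module F[X] M] [Module.Finite F[X] M]
    (hM : Module.IsTorsion F[X] M) : Nonempty (Dec (F := F) M) := by
  classical
  obtain ⟨ι, fι, p, hp, e, ⟨h⟩⟩ := Module.equiv_directSum_of_isTorsion hM
  exact ⟨⟨ι, fι, p, hp, e, h.trans (DirectSum.linearEquivFunOnFintype F[X] ι _)⟩⟩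

/-- dropping trivial factors of a product. -/
noncomputable def piDropEquiv {R : Type*} [Semiring R] {ι : Type*} (N : ι → Type*)
    [∀ i, AddCommMonoid (N i)] [∀ i, Module R (N i)] (Q : ι → Prop) [DecidablePred Q]
    (h : ∀ i, ¬ Q i → Subsingleton (N i)) :
    (∀ i, N i) ≃ₗ[R] (∀ a : {i // Q i}, N a.1) where
  toFun f a := f a.1
  invFun h' i := if hi : Q i then h' ⟨i, hi⟩ else 0
  map_add' _ _ := rfl
  map_smul' _ _ := rfl
  left_inv f := by
    funext i
    by_cases hi : Q i
    · simp [hi]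
    · have := h i hi
      exact Subsingleton.elim _ _
  right_inv h' := by
    funext a
    simp [a.2]

theorem cyc_zero_subsingleton (p : F[X]) : Subsingleton (Cyc p 0) := by
  rw [Submodule.Quotient.subsingleton_iff]
  rw [pow_zero]
  exact Ideal.span_singleton_one

variable {M : Type v} [AddCommGroup M] [Module F[X] M]
  {M' : Type w} [AddCommGroup M'] [Module F[X] M']

/-- the part of a decomposition with nonzero exponents. -/
noncomputable def Dec.isoNZ (D : Dec (F := F) M) :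
    M ≃ₗ[F[X]] ∀ a : {i : D.ι // D.e i ≠ 0}, Cyc (D.p a.1) (D.e a.1) := by
  classical
  refine D.iso.trans (piDropEquiv (R := F[X]) (fun i => Cyc (D.p i) (D.e i))
    (fun i => D.e i ≠ 0) ?_)
  intro i hi
  have h0 : D.e i = 0 := not_not.1 hi
  rw [h0]
  exact cyc_zero_subsingleton _

/-- reindexing a product of modules along an equivalence of index types and componentwise
isomorphisms. -/
noncomputable def piIso {R : Type*} [Semiring R] {α : Type*} {β : Type*}
    (N : α → Type*) (N' : β → Type*)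
    [∀ a, AddCommMonoid (N a)] [∀ a, Module R (N a)]
    [∀ b, AddCommMonoid (N' b)] [∀ b, Module R (N' b)]
    (σ : α ≃ β) (τ : ∀ a, N a ≃ₗ[R] N' (σ a)) : (∀ a, N a) ≃ₗ[R] (∀ b, N' b) :=
  (LinearEquiv.piCongrRight τ).trans (LinearEquiv.piCongrLeft R N' σ)

theorem span_pow_eq {p p' : F[X]} {e e' : ℕ} (he : e' = e) (hp : Associated p' p) :
    Submodule.span F[X] {p ^ e} = Submodule.span F[X] {p' ^ e'} := by
  rw [he]
  exact (Ideal.span_singleton_eq_span_singleton).2 (hp.symm.pow_pow)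

/-- componentwise isomorphism of cyclic modules. -/
noncomputable def cycIso {p p' : F[X]} {e e' : ℕ} (he : e' = e) (hp : Associated p' p) :
    Cyc p e ≃ₗ[F[X]] Cyc p' e' :=
  Submodule.quotEquivOfEq _ _ (span_pow_eq he hp)

theorem dec_iso (D : Dec (F := F) M) (D' : Dec (F := F) M')
    (σ : {i : D.ι // D.e i ≠ 0} ≃ {i' : D'.ι // D'.e i' ≠ 0})
    (hσ : ∀ a, D'.e (σ a).1 = D.e a.1 ∧ Associated (D'.p (σ a).1) (D.p a.1)) :
    Nonempty (M ≃ₗ[F[X]] M') := by
  let E2 : (∀ a : {i : D.ι // D.e i ≠ 0}, Cyc (D.p a.1) (D.e a.1)) ≃ₗ[F[X]]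
      (∀ b : {i' : D'.ι // D'.e i' ≠ 0}, Cyc (D'.p b.1) (D'.e b.1)) :=
    piIso (R := F[X]) (fun a : {i : D.ι // D.e i ≠ 0} => Cyc (D.p a.1) (D.e a.1))
      (fun b : {i' : D'.ι // D'.e i' ≠ 0} => Cyc (D'.p b.1) (D'.e b.1)) σ
      (fun a => cycIso (hσ a).1 (hσ a).2)
  exact ⟨D.isoNZ.trans (E2.trans D'.isoNZ.symm)⟩

end Cfsg.Agent.Helper5.GLk
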