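import Mathlib
import Cfsg.Agent.Helper5.GLk.Dec

/-!
S2478: the polynomial invariants of a primary decomposition, and the fact that they determine the
module up to isomorphism.
-/

set_option autoImplicit false

namespace Cfsg.Agent.Helper5.GLk

open Polynomial Module

open scoped Classical

/-- equality of fibre cardinalities gives an equivalence commuting with the maps. -/
theorem exists_equiv_of_card_fibre_eq {α β γ : Type*} [Finite α] [Finite β]
    (f : α → γ) (g : β → γ)
    (h : ∀ c, Nat.card {a // f a = c} = Nat.card {b // g b = c}) :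
    ∃ σ : α ≃ β, ∀ a, g (σ a) = f a := by
  have e : ∀ c, {a // f a = c} ≃ {b // g b = c} := fun c => (Finite.card_eq.1 (h c)).some
  exact ⟨Equiv.ofFiberEquiv e, fun a => Equiv.ofFiberEquiv_map e a⟩

universe u v w

variable {F : Type u} [Field F]

variable {M : Type v} [AddCommGroup M] [Module F[X] M]
  {M' : Type w} [AddCommGroup M'] [Module F[X] M']

/-- the `j`-th invariant: the product of the (normalized) primes occurring with exponent `j`. -/
noncomputable def Dec.inv (D : Dec (F := F) M) (j : ℕ) : F[X] :=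
  letI := D.fin
  ∏ i ∈ Finset.univ.filter (fun i => D.e i = j), normalize (D.p i)

/-- the multiset of normalized primes occurring with exponent `j`. -/
noncomputable def Dec.mset (D : Dec (F := F) M) (j : ℕ) : Multiset F[X] :=
  letI := D.fin
  (Finset.univ.filter (fun i => D.e i = j)).val.map (fun i => normalize (D.p i))

theorem Dec.mset_prod (D : Dec (F := F) M) (j : ℕ) : (D.mset j).prod = D.inv j := rfl

theorem Dec.mset_irreducible (D : Dec (F := F) M) (j : ℕ) :
    ∀ x ∈ D.mset j, Irreducible x ∧ normalize x = x := by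
  intro x hx
  obtain ⟨i, -, rfl⟩ := Multiset.mem_map.1 hx
  exact ⟨(normalize_associated (D.p i)).symm.irreducible (D.irr i), normalize_idem _⟩

theorem Dec.mset_eq_of_inv_eq (D : Dec (F := F) M) (D' : Dec (F := F) M') (j : ℕ)
    (h : D.inv j = D'.inv j) : D.mset j = D'.mset j := by
  have hrel := UniqueFactorizationMonoid.factors_unique
    (fun x hx => (D.mset_irreducible j x hx).1) (fun x hx => (D'.mset_irreducible j x hx).1)
    (by rw [D.mset_prod, D'.mset_prod, h]; exact Associated.refl _)
  apply Multiset.rel_eq.1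
  refine hrel.mono ?_
  intro a ha b hb hab
  exact hab.eq_of_normalized (D.mset_irreducible j a ha).2 (D'.mset_irreducible j b hb).2

theorem Dec.count_mset (D : Dec (F := F) M) (j : ℕ) (P : F[X]) :
    Multiset.count P (D.mset j) =
      Nat.card {i : D.ι // D.e i = j ∧ normalize (D.p i) = P} := by
  let _ := D.fin
  rw [Nat.card_eq_fintype_card, Dec.mset, Multiset.count_map, ← Finset.filter_val,
    Finset.card_val, Finset.filter_filter, Fintype.card_subtype]
  congr 1
  ext i
  simp only [Finset.mem_filter, Finset.mem_univ, true_and]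
  constructor
  · rintro ⟨h1, h2⟩; exact ⟨h1, h2.symm⟩
  · rintro ⟨h1, h2⟩; exact ⟨h1, h2.symm⟩

/-- equal invariants give a matching of the components with nonzero exponent. -/
theorem Dec.exists_matching (D : Dec (F := F) M) (D' : Dec (F := F) M')
    (h : ∀ j, 1 ≤ j → D.inv j = D'.inv j) :
    ∃ σ : {i : D.ι // D.e i ≠ 0} ≃ {i' : D'.ι // D'.e i' ≠ 0},
      ∀ a, D'.e (σ a).1 = D.e a.1 ∧ Associated (D'.p (σ a).1) (D.p a.1) := by
  have := D.fin
  have := D'.fin
  let f : {i : D.ι // D.e i ≠ 0} → F[X] × ℕ := fun a => (normalize (D.p a.1), D.e a.1)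
  let g : {i' : D'.ι // D'.e i' ≠ 0} → F[X] × ℕ := fun a => (normalize (D'.p a.1), D'.e a.1)
  have hfib : ∀ c, Nat.card {a // f a = c} = Nat.card {b // g b = c} := by
    rintro ⟨P, j⟩
    by_cases hj : j = 0
    · subst hj
      have h1 : IsEmpty {a // f a = (P, 0)} := ⟨fun a => a.1.2 (congrArg Prod.snd a.2)⟩
      have h2 : IsEmpty {b // g b = (P, 0)} := ⟨fun b => b.1.2 (congrArg Prod.snd b.2)⟩
      rw [Nat.card_of_isEmpty, Nat.card_of_isEmpty]
    · have hj1 : 1 ≤ j := Nat.one_le_iff_ne_zero.2 hj
      have e1 : {a // f a = (P, j)} ≃ {i : D.ι // D.e i = j ∧ normalize (D.p i) = P} :=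
        { toFun := fun a => ⟨a.1.1, congrArg Prod.snd a.2, congrArg Prod.fst a.2⟩
          invFun := fun i => ⟨⟨i.1, by rw [i.2.1]; exact hj⟩, Prod.ext i.2.2 i.2.1⟩
          left_inv := fun _ => rfl
          right_inv := fun _ => rfl }
      have e2 : {b // g b = (P, j)} ≃ {i : D'.ι // D'.e i = j ∧ normalize (D'.p i) = P} :=
        { toFun := fun a => ⟨a.1.1, congrArg Prod.snd a.2, congrArg Prod.fst a.2⟩
          invFun := fun i => ⟨⟨i.1, by rw [i.2.1]; exact hj⟩, Prod.ext i.2.2 i.2.1⟩
          left_inv := fun _ => rfl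
          right_inv := fun _ => rfl }
      rw [Nat.card_congr e1, Nat.card_congr e2]
      have hm := D.mset_eq_of_inv_eq D' j (h j hj1)
      have := congrArg (Multiset.count P) hm
      rw [D.count_mset, D'.count_mset] at this
      exact this
  obtain ⟨σ, hσ⟩ := exists_equiv_of_card_fibre_eq f g hfib
  refine ⟨σ, fun a => ?_⟩
  have h1 := hσ a
  have h2 : normalize (D'.p (σ a).1) = normalize (D.p a.1) := congrArg Prod.fst h1
  have h3 : D'.e (σ a).1 = D.e a.1 := congrArg Prod.snd h1
  exact ⟨h3, normalize_eq_normalize_iff_associated.1 h2⟩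

/-- two modules whose decompositions have the same invariants are isomorphic. -/
theorem Dec.iso_of_inv_eq (D : Dec (F := F) M) (D' : Dec (F := F) M')
    (h : ∀ j, 1 ≤ j → D.inv j = D'.inv j) : Nonempty (M ≃ₗ[F[X]] M') := by
  obtain ⟨σ, hσ⟩ := D.exists_matching D' h
  exact dec_iso D D' σ hσ

end Cfsg.Agent.Helper5.GLk
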