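import Mathlib
import Cfsg.Agent.Helper5.GLk.Data

/-!
S2478: the lower bound `q^n - q^(n-1) ≤ k(GL_n(q))`, via companion matrices
(the matrix of multiplication by `X` on `F[X]/(h)`).
-/

set_option autoImplicit false

namespace Cfsg.Agent.Helper5.GLk

open Polynomial

universe u

variable {F : Type u} [Field F] {n : ℕ}

/-- a matrix with characteristic polynomial `h`. -/
noncomputable def compMat (h : Mon F n) : Matrix (Fin n) (Fin n) F :=
  let pb := AdjoinRoot.powerBasis (h.2.1.ne_zero)
  have hdim : pb.dim = n := by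
    rw [AdjoinRoot.powerBasis_dim]; exact h.2.2.1
  Matrix.reindex (finCongr hdim) (finCongr hdim) (Algebra.leftMulMatrix pb.basis pb.gen)

theorem compMat_charpoly (h : Mon F n) : (compMat h).charpoly = h.1 := by
  unfold compMat
  simp only
  rw [Matrix.charpoly_reindex, charpoly_leftMulMatrix,
    AdjoinRoot.minpoly_powerBasis_gen_of_monic h.2.1]

theorem compMat_det_ne_zero (h : Mon F n) : (compMat h).det ≠ 0 := by
  rw [Matrix.det_eq_sign_charpoly_coeff, compMat_charpoly]
  apply mul_ne_zero
  · exact pow_ne_zero _ (neg_ne_zero.2 one_ne_zero)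
  · exact h.2.2.2

/-- the companion element of `GL_n(F)`. -/
noncomputable def compGL (h : Mon F n) : Matrix.GeneralLinearGroup (Fin n) F :=
  Matrix.GeneralLinearGroup.mkOfDetNeZero (compMat h) (compMat_det_ne_zero h)

theorem compGL_val (h : Mon F n) :
    ((compGL h : Matrix.GeneralLinearGroup (Fin n) F) : Matrix (Fin n) (Fin n) F) = compMat h := rfl

theorem charpoly_eq_of_isConj {a b : Matrix.GeneralLinearGroup (Fin n) F} (hab : IsConj a b) :
    (a : Matrix (Fin n) (Fin n) F).charpoly = (b : Matrix (Fin n) (Fin n) F).charpoly := by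
  obtain ⟨c, hc⟩ := isConj_iff.1 hab
  have h1 : (b : Matrix (Fin n) (Fin n) F) =
      (c : Matrix (Fin n) (Fin n) F) * (a : Matrix (Fin n) (Fin n) F) *
        (c : Matrix (Fin n) (Fin n) F)⁻¹ := by
    rw [← hc, Units.val_mul, Units.val_mul, Matrix.coe_units_inv]
  rw [h1, Matrix.charpoly_units_conj]

theorem compClass_injective :
    Function.Injective (fun h : Mon F n => ConjClasses.mk (compGL h)) := by
  intro h h' hh
  have hconj : IsConj (compGL h) (compGL h') := ConjClasses.mk_eq_mk_iff_isConj.1 hh
  have := charpoly_eq_of_isConj hconj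
  rw [compGL_val, compGL_val, compMat_charpoly, compMat_charpoly] at this
  exact Subtype.ext this

theorem card_conjClasses_ge [Fintype F] (hn : 1 ≤ n) :
    Fintype.card F ^ n - Fintype.card F ^ (n - 1) ≤
      Nat.card (ConjClasses (Matrix.GeneralLinearGroup (Fin n) F)) := by
  have h1 : Nat.card (Mon F n) ≤ Nat.card (ConjClasses (Matrix.GeneralLinearGroup (Fin n) F)) :=
    Nat.card_le_card_of_injective _ compClass_injective
  obtain ⟨m, rfl⟩ : ∃ m, n = m + 1 := ⟨n - 1, by omega⟩
  rw [card_Mon, aNum_succ] at h1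
  rw [Nat.add_sub_cancel, pow_succ]
  calc Fintype.card F ^ m * Fintype.card F - Fintype.card F ^ m
      = (Fintype.card F - 1) * Fintype.card F ^ m := by
        rw [Nat.sub_mul, one_mul, mul_comm]
    _ ≤ _ := h1

end Cfsg.Agent.Helper5.GLk
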