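import Mathlib
import Cfsg.Agent.Helper5.GLk.Inv

/-!
S2478: properties of the decomposition of the module of an element of `GL_n(F)`.
-/

set_option autoImplicit false

namespace Cfsg.Agent.Helper5.GLk

open Polynomial Module

open scoped Classical

universe u

variable {F : Type u} [Field F] {n : ℕ}

/-- the module of an element of `GL_n(F)`. -/
abbrev glMod (g : Matrix.GeneralLinearGroup (Fin n) F) : Type u := AEval' (glLin g)

theorem glMod_isTorsion (g : Matrix.GeneralLinearGroup (Fin n) F) :
    Module.IsTorsion F[X] (glMod g) :=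
  Module.AEval.isTorsion_of_finiteDimensional F (Fin n → F) (glLin g)

theorem glMod_finrank (g : Matrix.GeneralLinearGroup (Fin n) F) :
    Module.finrank F (glMod g) = n := by
  rw [← (AEval'.of (glLin g)).finrank_eq, Module.finrank_fin_fun]

/-- a chosen decomposition. -/
noncomputable def glDec (g : Matrix.GeneralLinearGroup (Fin n) F) : Dec (F := F) (glMod g) :=
  (exists_dec (glMod g) (glMod_isTorsion g)).some

theorem cyc_finrank (p : F[X]) (e : ℕ) :
    Module.finrank F (Cyc p e) = e * p.natDegree := by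
  have h := finrank_quotient_span_eq_natDegree (f := p ^ e)
  rw [natDegree_pow] at h
  exact h

variable (g : Matrix.GeneralLinearGroup (Fin n) F) (D : Dec (F := F) (glMod g))

/-- the `F`-linear version of the decomposition. -/
noncomputable def Dec.isoF : glMod g ≃ₗ[F] ∀ i, Cyc (D.p i) (D.e i) :=
  D.iso.restrictScalars F

theorem Dec.cyc_finite (i : D.ι) : Module.Finite F (Cyc (D.p i) (D.e i)) := by
  have hs : Function.Surjective
      ((LinearMap.proj i : (∀ i, Cyc (D.p i) (D.e i)) →ₗ[F] _).comp (D.isoF g).toLinearMap) := by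
    intro x
    refine ⟨(D.isoF g).symm (Pi.single i x), ?_⟩
    simp
  exact Module.Finite.of_surjective _ hs

theorem Dec.sum_eq (D : Dec (F := F) (glMod g)) :
    letI := D.fin
    ∑ i, D.e i * (D.p i).natDegree = n := by
  let _ := D.fin
  have : ∀ i, Module.Finite F (Cyc (D.p i) (D.e i)) := fun i => D.cyc_finite g i
  have h1 := (D.isoF g).finrank_eq
  rw [glMod_finrank, Module.finrank_pi_fintype] at h1
  refine Eq.trans ?_ h1.symm
  apply Finset.sum_congr rfl
  intro i _
  rw [cyc_finrank]

theorem Dec.coeff_zero_ne (D : Dec (F := F) (glMod g)) (i : D.ι) (hi : D.e i ≠ 0) :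
    (D.p i).coeff 0 ≠ 0 := by
  intro h0
  have hX : (X : F[X]) ∣ D.p i := X_dvd_iff.2 h0
  -- `p i` is associated to `X`
  have hass : Associated (X : F[X]) (D.p i) := by
    obtain ⟨c, hc⟩ := hX
    have hu : IsUnit c := by
      rcases (D.irr i).isUnit_or_isUnit hc with h | h
      · exact absurd h not_isUnit_X
      · exact h
    obtain ⟨u, rfl⟩ := hu
    exact ⟨u, hc.symm⟩
  have hmem : (X : F[X]) ^ D.e i ∈ Submodule.span F[X] {D.p i ^ D.e i} := by
    have : Associated ((X : F[X]) ^ D.e i) (D.p i ^ D.e i) := hass.pow_pow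
    obtain ⟨u, hu⟩ := this
    rw [Submodule.mem_span_singleton]
    refine ⟨((u⁻¹ : F[X]ˣ) : F[X]), ?_⟩
    rw [smul_eq_mul, mul_comm, ← hu, Units.mul_inv_cancel_right]
  -- the element of the module supported at `i`
  set x : ∀ i, Cyc (D.p i) (D.e i) := Pi.single i (Submodule.Quotient.mk 1) with hx
  set u := D.iso.symm x with hu
  have hXu : ((X : F[X]) ^ D.e i) • u = 0 := by
    rw [hu, ← map_smul]
    have : ((X : F[X]) ^ D.e i) • x = 0 := by
      rw [hx, ← Pi.single_smul]
      rw [← Submodule.Quotient.mk_smul, smul_eq_mul, mul_one,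
        (Submodule.Quotient.mk_eq_zero _).2 hmem, Pi.single_zero]
    rw [this, map_zero]
  have hu0 : u = 0 := by
    have h1 : (AEval'.of (glLin g)).symm (((X : F[X]) ^ D.e i) • u) = 0 := by
      rw [hXu, map_zero]
    obtain ⟨v, hv⟩ : ∃ v, AEval'.of (glLin g) v = u := ⟨(AEval'.of (glLin g)).symm u, by simp⟩
    rw [← hv, AEval'.X_pow_smul_of, LinearEquiv.symm_apply_apply] at h1
    have h2 : ((glLin g) ^ D.e i) v = ((glLin g) ^ D.e i) 0 := by
      rw [map_zero]; exact h1
    have hv0 : v = 0 := glLin_pow_injective g _ h2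
    rw [← hv, hv0, map_zero]
  have hx0 : x = 0 := by
    have := congrArg D.iso hu0
    rw [hu, LinearEquiv.apply_symm_apply, map_zero] at this
    exact this
  have h1 : (Submodule.Quotient.mk (1 : F[X]) : Cyc (D.p i) (D.e i)) = 0 := by
    have := congrFun hx0 i
    rw [hx, Pi.single_eq_same] at this
    exact this
  rw [Submodule.Quotient.mk_eq_zero, Submodule.mem_span_singleton] at h1
  obtain ⟨c, hc⟩ := h1
  have hunit : IsUnit (D.p i ^ D.e i) := IsUnit.of_mul_eq_one (a := D.p i ^ D.e i) c (by
    rw [mul_comm]; simpa using hc)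
  exact (D.irr i).not_isUnit ((isUnit_pow_iff hi).1 hunit)

end Cfsg.Agent.Helper5.GLk
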