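import Mathlib
import Cfsg.Agent.Helper5.GLk.Props
import Cfsg.Agent.Helper5.GLk.Data

/-!
S2478: the upper bound `k(GL_n(q)) ≤ q^n`.
-/

set_option autoImplicit false

namespace Cfsg.Agent.Helper5.GLk

open Polynomial Module

open scoped Classical

universe u

variable {F : Type u} [Field F] {n : ℕ}

variable (g : Matrix.GeneralLinearGroup (Fin n) F) (D : Dec (F := F) (glMod g))

theorem Dec.p_ne_zero (i : D.ι) : D.p i ≠ 0 := (D.irr i).ne_zero

theorem Dec.natDegree_pos (i : D.ι) : 0 < (D.p i).natDegree :=
  natDegree_pos_iff_degree_pos.2 (degree_pos_of_irreducible (D.irr i))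

theorem natDegree_normalize' (p : F[X]) : (normalize p).natDegree = p.natDegree := by
  rw [natDegree, natDegree, degree_normalize]

theorem Dec.inv_monic (j : ℕ) : (D.inv j).Monic := by
  letI := D.fin
  unfold Dec.inv
  apply monic_prod_of_monic
  intro i _
  exact monic_normalize (D.p_ne_zero g i)

theorem Dec.inv_natDegree (j : ℕ) :
    letI := D.fin
    (D.inv j).natDegree = ∑ i ∈ Finset.univ.filter (fun i => D.e i = j), (D.p i).natDegree := by
  letI := D.fin
  unfold Dec.inv
  rw [natDegree_prod_of_monic]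
  · apply Finset.sum_congr rfl
    intro i _
    exact natDegree_normalize' _
  · intro i _
    exact monic_normalize (D.p_ne_zero g i)

theorem Dec.inv_coeff_zero (j : ℕ) (hj : 1 ≤ j) : (D.inv j).coeff 0 ≠ 0 := by
  letI := D.fin
  unfold Dec.inv
  rw [coeff_zero_prod]
  apply Finset.prod_ne_zero_iff.2
  intro i hi
  have hei : D.e i = j := (Finset.mem_filter.1 hi).2
  have h1 : (D.p i).coeff 0 ≠ 0 := D.coeff_zero_ne g i (by omega)
  intro h0
  apply h1
  have hX : (X : F[X]) ∣ normalize (D.p i) := X_dvd_iff.2 h0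
  rw [dvd_normalize_iff] at hX
  exact X_dvd_iff.1 hX

theorem Dec.e_le (i : D.ι) : D.e i ≤ n := by
  letI := D.fin
  have h := D.sum_eq g
  have h1 : D.e i * (D.p i).natDegree ≤ ∑ i, D.e i * (D.p i).natDegree :=
    Finset.single_le_sum (f := fun i => D.e i * (D.p i).natDegree) (fun _ _ => Nat.zero_le _)
      (Finset.mem_univ i)
  have h2 : D.e i ≤ D.e i * (D.p i).natDegree := Nat.le_mul_of_pos_right _ (D.natDegree_pos g i)
  omega

theorem Dec.inv_eq_one_of_lt (j : ℕ) (hj : n < j) : D.inv j = 1 := by
  letI := D.fin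
  unfold Dec.inv
  rw [Finset.filter_eq_empty_iff.2, Finset.prod_empty]
  intro i _ hi
  have := D.e_le g i
  omega

theorem Dec.sum_inv :
    ∑ k : Fin n, (k.1 + 1) * (D.inv (k.1 + 1)).natDegree = n := by
  letI := D.fin
  have h := D.sum_eq g
  have hmaps : ∀ i ∈ (Finset.univ : Finset D.ι), D.e i ∈ Finset.range (n + 1) := by
    intro i _
    exact Finset.mem_range.2 (Nat.lt_succ_of_le (D.e_le g i))
  have h2 := Finset.sum_fiberwise_of_maps_to hmaps (fun i => D.e i * (D.p i).natDegree)
  rw [h] at h2
  have h3 : ∀ j ∈ Finset.range (n + 1),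
      ∑ i ∈ Finset.univ.filter (fun i => D.e i = j), D.e i * (D.p i).natDegree =
        j * (D.inv j).natDegree := by
    intro j _
    rw [D.inv_natDegree g j, Finset.mul_sum]
    apply Finset.sum_congr rfl
    intro i hi
    rw [(Finset.mem_filter.1 hi).2]
  rw [Finset.sum_congr rfl h3, Finset.sum_range_succ', zero_mul, add_zero] at h2
  rw [Fin.sum_univ_eq_sum_range (fun k => (k + 1) * (D.inv (k + 1)).natDegree) n]
  exact h2

/-- the sequence of invariants attached to a decomposition. -/
noncomputable def Dec.toDSeq : DSeq F n n :=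
  ⟨fun k => D.inv (k.1 + 1),
    fun k => ⟨D.inv_monic g _, D.inv_coeff_zero g _ (by omega)⟩, D.sum_inv g⟩

variable (F n)

/-- a representative of a conjugacy class. -/
noncomputable def classRep (c : ConjClasses (Matrix.GeneralLinearGroup (Fin n) F)) :
    Matrix.GeneralLinearGroup (Fin n) F :=
  Function.surjInv ConjClasses.mk_surjective c

theorem mk_classRep (c : ConjClasses (Matrix.GeneralLinearGroup (Fin n) F)) :
    ConjClasses.mk (classRep F n c) = c :=
  Function.surjInv_eq ConjClasses.mk_surjective c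

/-- the invariant map on conjugacy classes. -/
noncomputable def classInv (c : ConjClasses (Matrix.GeneralLinearGroup (Fin n) F)) : DSeq F n n :=
  (glDec (classRep F n c)).toDSeq (classRep F n c)

theorem classInv_injective : Function.Injective (classInv F n) := by
  intro c c' h
  set r := classRep F n c with hr
  set r' := classRep F n c' with hr'
  have hinv : ∀ j, 1 ≤ j → (glDec r).inv j = (glDec r').inv j := by
    intro j hj
    by_cases hjn : j ≤ n
    · have h1 := congrArg (fun x : DSeq F n n => x.1 ⟨j - 1, by omega⟩) h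
      have h2 : (glDec r).inv (j - 1 + 1) = (glDec r').inv (j - 1 + 1) := h1
      rwa [Nat.sub_add_cancel hj] at h2
    · rw [(glDec r).inv_eq_one_of_lt r j (by omega), (glDec r').inv_eq_one_of_lt r' j (by omega)]
  obtain ⟨ψ⟩ := (glDec r).iso_of_inv_eq (glDec r') hinv
  have hconj : IsConj r r' := isConj_of_aeval_equiv r r' ψ
  rw [← mk_classRep F n c, ← mk_classRep F n c']
  exact ConjClasses.mk_eq_mk_iff_isConj.2 hconj

theorem card_conjClasses_lt [Fintype F] (hn : 1 ≤ n) :
    Nat.card (ConjClasses (Matrix.GeneralLinearGroup (Fin n) F)) + 1 ≤ Fintype.card F ^ n :=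
  le_trans (Nat.add_le_add_right (Nat.card_le_card_of_injective _ (classInv_injective F n)) 1)
    (card_dseq_diag_lt F n hn)

end Cfsg.Agent.Helper5.GLk
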